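import Mathlib
import Cfsg.Prelude.Def_CaseTheorems
import Cfsg.Agent.H2.MaxClassTwo
import Cfsg.Agent.Lib.Lead.PGroup

/-! # S3390, part A (helper8): a `2`-group with an involution whose centralizer has order four is
dihedral or semidihedral (Suzuki's lemma + Taussky) -/

set_option autoImplicit false
set_option linter.unusedVariables false
set_option linter.style.haveILetI false

namespace Cfsg.Agent.S3390L

universe u

open Subgroup

theorem mem_centralizer_singleton_iff' {S : Type u} [Group S] (u g : S) :
    g ∈ centralizer ({u} : Set S) ↔ u * g = g * u := by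
  rw [mem_centralizer_iff]
  constructor
  · intro h; exact h u rfl
  · intro h x hx; rw [Set.mem_singleton_iff.mp hx]; exact h

/-- **Suzuki's lemma** for `p = 2`: a `2`-group of order at least four with an element whose
centralizer has order at most four has commutator subgroup of index four. -/
theorem index_commutator_of_centralizer (n : ℕ) : ∀ (S : Type u) [Group S] [Finite S],
    Nat.card S = 2 ^ (n + 2) →
    (∃ u : S, Nat.card (centralizer ({u} : Set S)) ≤ 4) → (commutator S).index = 4 := by
  haveI : Fact (Nat.Prime 2) := ⟨Nat.prime_two⟩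
  induction n with
  | zero =>
    intro S _ _ hcard _
    have hS : IsPGroup 2 S := IsPGroup.of_card hcard
    have hc : ∀ x y : S, x * y = y * x := by
      intro x y
      have := IsPGroup.isMulCommutative_of_card_eq_prime_sq (p := 2) (G := S) (by rw [hcard])
      exact this.is_comm.comm x y
    have : commutator S = ⊥ := Cfsg.Agent.H2.Taussky.commutator_eq_bot_of_comm hc
    rw [this, Subgroup.index_bot, hcard]
    norm_num
  | succ n ih =>
    intro S _ _ hcard hu
    obtain ⟨u, hu⟩ := hu
    have hS : IsPGroup 2 S := IsPGroup.of_card hcard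
    have h8 : 8 ≤ Nat.card S := by
      rw [hcard]
      calc 8 = 2 ^ 3 := by norm_num
        _ ≤ 2 ^ (n + 1 + 2) := Nat.pow_le_pow_right (by norm_num) (by omega)
    haveI : Nontrivial S := by
      rw [← Finite.one_lt_card_iff_nontrivial]; omega
    set Z : Subgroup S := center S with hZ
    set C : Subgroup S := centralizer ({u} : Set S) with hC
    have huZ : u ∉ Z := by
      intro h
      have : C = ⊤ := by
        rw [eq_top_iff]
        intro g _
        rw [hC, mem_centralizer_singleton_iff']
        exact (Subgroup.mem_center_iff.mp h g).symm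
      rw [this, Subgroup.card_top] at hu
      omega
    have hZC : Z ≤ C := by
      intro z hz
      rw [hC, mem_centralizer_singleton_iff']
      exact Subgroup.mem_center_iff.mp hz u
    have huC : u ∈ C := by rw [hC, mem_centralizer_singleton_iff']
    have hZltC : Z < C := lt_of_le_of_ne hZC (fun h => huZ (h ▸ huC))
    haveI : Nontrivial Z := hS.center_nontrivial
    have hZcard : Nat.card Z = 2 := by
      have hdvd : Nat.card Z ∣ Nat.card C := Subgroup.card_dvd_of_le hZC
      have hne : Nat.card Z ≠ Nat.card C :=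
        fun h => hZltC.ne (Subgroup.eq_of_le_of_card_ge hZC h.ge)
      have h2 : 1 < Nat.card Z := Finite.one_lt_card
      have hCpos : 0 < Nat.card C := Nat.card_pos
      obtain ⟨k, hk⟩ := hdvd
      have hk2 : 2 ≤ k := by
        rcases k with _ | _ | k
        · omega
        · omega
        · omega
      have : Nat.card Z * 2 ≤ Nat.card C := by
        rw [hk]; exact Nat.mul_le_mul_left _ hk2
      omega
    -- the quotient
    have hQcard : Nat.card (S ⧸ Z) = 2 ^ (n + 2) := by
      have h1 := Subgroup.card_eq_card_quotient_mul_card_subgroup Z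
      rw [hcard, hZcard, pow_succ] at h1
      omega
    set ubar : S ⧸ Z := QuotientGroup.mk' Z u with hubar
    set Cq : Subgroup (S ⧸ Z) := centralizer ({ubar} : Set (S ⧸ Z)) with hCq
    set Cs : Subgroup S := Cq.comap (QuotientGroup.mk' Z) with hCs
    have hmemCs : ∀ s : S, s ∈ Cs ↔ s * u * s⁻¹ * u⁻¹ ∈ Z := by
      intro s
      rw [hCs, Subgroup.mem_comap, hCq, mem_centralizer_singleton_iff', hubar,
        ← map_mul, ← map_mul, QuotientGroup.mk'_apply, QuotientGroup.mk'_apply,
        QuotientGroup.eq]
      constructor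
      · intro h
        have h2 := (inferInstance : Z.Normal).conj_mem _ (Z.inv_mem h) (u * s)
        have e : u * s * ((u * s)⁻¹ * (s * u))⁻¹ * (u * s)⁻¹ = (s * u * s⁻¹ * u⁻¹)⁻¹ := by group
        rw [e] at h2
        exact (Z.inv_mem_iff).mp h2
      · intro h
        have h2 := (inferInstance : Z.Normal).conj_mem _ h (u * s)⁻¹
        have e : (u * s)⁻¹ * (s * u * s⁻¹ * u⁻¹) * (u * s)⁻¹⁻¹ = (u * s)⁻¹ * (s * u) := by group
        rw [e] at h2
        exact h2
    -- the commutator homomorphism `Cs → Z`
    let f : Cs →* Z :=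
      { toFun := fun s => ⟨s.1 * u * s.1⁻¹ * u⁻¹, (hmemCs s.1).mp s.2⟩
        map_one' := by apply Subtype.ext; simp
        map_mul' := by
          intro s t
          apply Subtype.ext
          have ht : t.1 * u * t.1⁻¹ * u⁻¹ ∈ Z := (hmemCs t.1).mp t.2
          have hcomm := Subgroup.mem_center_iff.mp ht
          show (s.1 * t.1) * u * (s.1 * t.1)⁻¹ * u⁻¹ =
            (s.1 * u * s.1⁻¹ * u⁻¹) * (t.1 * u * t.1⁻¹ * u⁻¹)
          calc (s.1 * t.1) * u * (s.1 * t.1)⁻¹ * u⁻¹
              = s.1 * (t.1 * u * t.1⁻¹ * u⁻¹) * u * s.1⁻¹ * u⁻¹ := by group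
            _ = (t.1 * u * t.1⁻¹ * u⁻¹) * s.1 * u * s.1⁻¹ * u⁻¹ := by rw [hcomm s.1]
            _ = (t.1 * u * t.1⁻¹ * u⁻¹) * (s.1 * u * s.1⁻¹ * u⁻¹) := by group
            _ = _ := by
              have := Subgroup.mem_center_iff.mp ht (s.1 * u * s.1⁻¹ * u⁻¹)
              exact this.symm }
    have hker : Nat.card f.ker ≤ 4 := by
      refine le_trans ?_ hu
      apply Nat.card_le_card_of_injective (fun s : f.ker => (⟨s.1.1, ?_⟩ : C))
      · intro a b hab
        have := congrArg Subtype.val hab
        exact Subtype.ext (Subtype.ext this)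
      · have h1 := s.2
        rw [MonoidHom.mem_ker] at h1
        have h2 := congrArg Subtype.val h1
        rw [hC, mem_centralizer_singleton_iff']
        have h3 : s.1.1 * u * s.1.1⁻¹ * u⁻¹ = 1 := h2
        calc u * s.1.1 = (s.1.1 * u * s.1.1⁻¹ * u⁻¹)⁻¹ * s.1.1 * u := by group
          _ = s.1.1 * u := by rw [h3]; group
    have hCscard : Nat.card Cs ≤ 8 := by
      have h1 := Subgroup.card_eq_card_quotient_mul_card_subgroup f.ker
      have h2 : Nat.card (Cs ⧸ f.ker) = Nat.card f.range :=
        Nat.card_congr (QuotientGroup.quotientKerEquivRange f).toEquiv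
      have h3 : Nat.card f.range ≤ 2 := by
        rw [← hZcard]; exact Subgroup.card_le_card_group _
      rw [h1, h2]
      calc Nat.card f.range * Nat.card f.ker ≤ 2 * 4 := Nat.mul_le_mul h3 hker
        _ = 8 := by norm_num
    have hCqcard : Nat.card Cq ≤ 4 := by
      have h1 : Cs.index = Cq.index :=
        Subgroup.index_comap_of_surjective _ (QuotientGroup.mk'_surjective Z)
      have h2 := Cs.card_mul_index
      have h3 := Cq.card_mul_index
      rw [hcard] at h2
      rw [hQcard] at h3
      rw [h1] at h2
      have h4 : Nat.card Cs = 2 * Nat.card Cq := by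
        have hi : 0 < Cq.index := Nat.pos_of_ne_zero Subgroup.index_ne_zero_of_finite
        have : Nat.card Cs * Cq.index = 2 * Nat.card Cq * Cq.index := by
          rw [h2, mul_assoc, h3, pow_succ]; ring
        exact Nat.eq_of_mul_eq_mul_right hi this
      omega
    have hQ := ih (S ⧸ Z) hQcard ⟨ubar, hCqcard⟩
    -- `Z ≤ S'`
    have hne : commutator S ≠ ⊥ := by
      intro h
      rw [commutator_eq_bot_iff_center_eq_top] at h
      exact huZ (by rw [hZ, h]; exact Subgroup.mem_top u)
    have hK := Cfsg.Agent.Lib.Lead.PGroup.normal_inf_center_ne_bot hS (commutator S) hne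
    have hZcomm : Z ≤ commutator S := by
      have h1 : commutator S ⊓ Z ≤ Z := inf_le_right
      have h2 : Nat.card (commutator S ⊓ Z : Subgroup S) ∣ 2 := by
        rw [← hZcard]; exact Subgroup.card_dvd_of_le h1
      have h3 : Nat.card (commutator S ⊓ Z : Subgroup S) ≠ 1 := by
        rw [Ne, Subgroup.card_eq_one]; exact hK
      have h4 : Nat.card (commutator S ⊓ Z : Subgroup S) = 2 := by
        rcases (Nat.dvd_prime Nat.prime_two).mp h2 with h | h
        · exact absurd h h3
        · exact h
      have h5 : commutator S ⊓ Z = Z :=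
        Subgroup.eq_of_le_of_card_ge h1 (by rw [h4, hZcard])
      rw [← h5]; exact inf_le_left
    have h1 : commutator (S ⧸ Z) = (commutator S).map (QuotientGroup.mk' Z) := by
      rw [_root_.commutator_def, _root_.commutator_def, Subgroup.map_commutator, ← MonoidHom.range_eq_map,
        MonoidHom.range_eq_top.mpr (QuotientGroup.mk'_surjective Z)]
    rw [h1, Subgroup.index_map_eq _ (QuotientGroup.mk'_surjective Z)
      (by rw [QuotientGroup.ker_mk']; exact hZcomm)] at hQ
    exact hQ

/-- in a generalized quaternion group an element of order at most two is central -/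
theorem quaternion_sq_one_central {m : ℕ} [NeZero m] (q : QuaternionGroup m) (hq : q * q = 1)
    (g : QuaternionGroup m) : q * g = g * q := by
  rcases q with i | i
  · have hi : i + i = 0 := by
      have : QuaternionGroup.a (i + i) = (QuaternionGroup.a 0 : QuaternionGroup m) := hq
      exact QuaternionGroup.a.inj this
    rcases g with j | j
    · show QuaternionGroup.a (i + j) = QuaternionGroup.a (j + i)
      rw [add_comm]
    · show QuaternionGroup.xa (j - i) = QuaternionGroup.xa (j + i)
      congr 1
      have : -i = i := by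
        have := eq_neg_of_add_eq_zero_left hi
        rw [← this]
      rw [sub_eq_add_neg, this]
  · exfalso
    have h1 : QuaternionGroup.a ((m : ZMod (2 * m)) + i - i) =
        (QuaternionGroup.a 0 : QuaternionGroup m) := hq
    have h2 := QuaternionGroup.a.inj h1
    rw [add_sub_cancel_right] at h2
    rw [ZMod.natCast_eq_zero_iff] at h2
    have hm : 0 < m := Nat.pos_of_ne_zero (NeZero.ne m)
    have := Nat.le_of_dvd hm h2
    omega

theorem dihedral_or_qd {S : Type u} [Group S] [Finite S] (hS : IsPGroup 2 S)
    (h8 : 8 ≤ Nat.card S) (u : S) (hu1 : u ≠ 1) (hu2 : u * u = 1)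
    (hC : Nat.card (centralizer ({u} : Set S)) = 4) :
    (∃ n : ℕ, Nonempty (S ≃* DihedralGroup n)) ∨ Cfsg.IsQuasiDihedral S := by
  haveI : Fact (Nat.Prime 2) := ⟨Nat.prime_two⟩
  obtain ⟨n, hn⟩ := IsPGroup.iff_card.mp hS
  have hn3 : 3 ≤ n := by
    by_contra hcon
    have : 2 ^ n ≤ 2 ^ 2 := Nat.pow_le_pow_right (by norm_num) (by omega)
    omega
  obtain ⟨k, rfl⟩ : ∃ k, n = k + 2 := ⟨n - 2, by omega⟩
  have hidx := index_commutator_of_centralizer k S hn ⟨u, hC.le⟩
  rcases Cfsg.Agent.H2.MaxClassTwo.classify (k + 2) hn3 hn hidx with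
    h | ⟨h4, a, b, ha, hb, hab⟩ | ⟨⟨e⟩⟩
  · exact Or.inl ⟨_, h⟩
  · right
    refine ⟨k + 1, by omega, hn, a, b, ?_, hb, ?_⟩
    · simpa using ha
    · simpa using hab
  · exfalso
    haveI : NeZero (2 ^ (k + 2 - 2)) := ⟨by positivity⟩
    have hcen : ∀ g : S, u * g = g * u := by
      intro g
      have h1 : e u * e u = 1 := by rw [← map_mul, hu2, map_one]
      have h2 := quaternion_sq_one_central (e u) h1 (e g)
      rw [← map_mul, ← map_mul] at h2
      exact e.injective h2
    have : centralizer ({u} : Set S) = ⊤ := by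
      rw [eq_top_iff]
      intro g _
      rw [mem_centralizer_singleton_iff']
      exact hcen g
    rw [this, Subgroup.card_top] at hC
    omega

/-- variant: only an upper bound for the centralizer and non-centrality are needed -/
theorem dihedral_or_qd' {S : Type u} [Group S] [Finite S] (hS : IsPGroup 2 S)
    (u : S) (hu1 : u ≠ 1) (hu2 : u * u = 1)
    (hC : Nat.card (centralizer ({u} : Set S)) ≤ 4) (hnc : ∃ g : S, u * g ≠ g * u) :
    (∃ n : ℕ, Nonempty (S ≃* DihedralGroup n)) ∨ Cfsg.IsQuasiDihedral S := by
  haveI : Fact (Nat.Prime 2) := ⟨Nat.prime_two⟩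
  obtain ⟨g, hg⟩ := hnc
  haveI : Nontrivial S := ⟨⟨u, 1, hu1⟩⟩
  set C : Subgroup S := centralizer ({u} : Set S) with hCdef
  set Z : Subgroup S := center S with hZ
  have huC : u ∈ C := by rw [hCdef, mem_centralizer_singleton_iff']
  have huZ : u ∉ Z := fun h => hg (Subgroup.mem_center_iff.mp h g).symm
  have hZC : Z ≤ C := by
    intro z hz
    rw [hCdef, mem_centralizer_singleton_iff']
    exact Subgroup.mem_center_iff.mp hz u
  have hZltC : Z < C := lt_of_le_of_ne hZC (fun h => huZ (h ▸ huC))
  haveI : Nontrivial Z := hS.center_nontrivial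
  have hZ2 : 2 ≤ Nat.card Z := Finite.one_lt_card
  have hC4 : Nat.card C = 4 := by
    have hdvd : Nat.card Z ∣ Nat.card C := Subgroup.card_dvd_of_le hZC
    have hne : Nat.card Z ≠ Nat.card C :=
      fun h => hZltC.ne (Subgroup.eq_of_le_of_card_ge hZC h.ge)
    have hCpos : 0 < Nat.card C := Nat.card_pos
    obtain ⟨k, hk⟩ := hdvd
    have hk2 : 2 ≤ k := by
      rcases k with _ | _ | k
      · omega
      · omega
      · omega
    have : Nat.card Z * 2 ≤ Nat.card C := by
      rw [hk]; exact Nat.mul_le_mul_left _ hk2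
    omega
  have hCtop : C ≠ ⊤ := by
    intro h
    apply hg
    have : g ∈ C := h ▸ Subgroup.mem_top g
    rwa [hCdef, mem_centralizer_singleton_iff'] at this
  have h8 : 8 ≤ Nat.card S := by
    have h1 := C.card_mul_index
    have h2 : C.index ≠ 1 := fun h => hCtop (Subgroup.index_eq_one.mp h)
    have h3 : C.index ≠ 0 := Subgroup.index_ne_zero_of_finite
    have h4 : 2 ≤ C.index := by omega
    calc 8 = 4 * 2 := by norm_num
      _ ≤ Nat.card C * C.index := by rw [hC4]; exact Nat.mul_le_mul_left _ h4
      _ = Nat.card S := h1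
  exact dihedral_or_qd hS h8 u hu1 hu2 hC4

end Cfsg.Agent.S3390L
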