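import Mathlib
import Cfsg.Agent.Lib.S3390.MaxClass

/-! # S3390, part B (helper8): a `2`-group acting with fixity at most two — basic analysis -/

set_option autoImplicit false
set_option linter.unusedVariables false
set_option linter.style.haveILetI false

namespace Cfsg.Agent.S3390L

open MulAction

universe u v

/-- no non-identity element fixes three distinct points -/
def F3 (P : Type u) [Group P] (Ω : Type v) [MulAction P Ω] : Prop :=
  ∀ g : P, g ≠ 1 → ∀ a b c : Ω, a ≠ b → a ≠ c → b ≠ c → g • a = a → g • b = b → g • c = c → False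

section

variable {P : Type u} [Group P] [Finite P] {Ω : Type v} [MulAction P Ω]

theorem exists_normalizing (hP : IsPGroup 2 P) (ω : Ω) (hne : stabilizer P ω ≠ ⊤) :
    ∃ x : P, x ∉ stabilizer P ω ∧
      (∀ t, t ∈ stabilizer P ω ↔ x * t * x⁻¹ ∈ stabilizer P ω) := by
  haveI : Fact (Nat.Prime 2) := ⟨Nat.prime_two⟩
  haveI := hP.isNilpotent
  have hnc := Group.normalizerCondition_of_isNilpotent (G := P)
  have hlt := hnc (stabilizer P ω) (lt_top_iff_ne_top.mpr hne)
  obtain ⟨x, hxN, hxT⟩ := SetLike.exists_of_lt hlt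
  exact ⟨x, hxT, fun t => Subgroup.mem_normalizer_iff.mp hxN t⟩

theorem fixed_pair (hF : F3 P Ω) (ω : Ω) (x : P) (hx : x ∉ stabilizer P ω)
    (hxn : ∀ t, t ∈ stabilizer P ω ↔ x * t * x⁻¹ ∈ stabilizer P ω) :
    x • ω ≠ ω ∧ (∀ t ∈ stabilizer P ω, t • (x • ω) = x • ω) ∧
    ∀ t ∈ stabilizer P ω, t ≠ 1 → ∀ γ : Ω, t • γ = γ → γ = ω ∨ γ = x • ω := by
  have h1 : x • ω ≠ ω := fun h => hx (mem_stabilizer_iff.mpr h)
  have h2 : ∀ t ∈ stabilizer P ω, t • (x • ω) = x • ω := by
    intro t ht
    have h3 : x⁻¹ * t * x ∈ stabilizer P ω := by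
      rw [hxn]
      have : x * (x⁻¹ * t * x) * x⁻¹ = t := by group
      rw [this]; exact ht
    rw [mem_stabilizer_iff] at h3
    calc t • (x • ω) = x • ((x⁻¹ * t * x) • ω) := by
          rw [smul_smul, smul_smul]; congr 1; group
      _ = x • ω := by rw [h3]
  refine ⟨h1, h2, ?_⟩
  intro t ht ht1 γ hγ
  by_contra hcon
  push Not at hcon
  exact hF t ht1 ω (x • ω) γ h1.symm hcon.1.symm hcon.2.symm (mem_stabilizer_iff.mp ht)
    (h2 t ht) hγ

theorem mem_or_of_conj (hF : F3 P Ω) (ω : Ω) (x : P) (hx : x ∉ stabilizer P ω)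
    (hxn : ∀ t, t ∈ stabilizer P ω ↔ x * t * x⁻¹ ∈ stabilizer P ω)
    (s t : P) (ht : t ∈ stabilizer P ω) (ht1 : t ≠ 1)
    (hst : s * t * s⁻¹ ∈ stabilizer P ω) :
    s ∈ stabilizer P ω ∨ x⁻¹ * s ∈ stabilizer P ω := by
  obtain ⟨-, -, h3⟩ := fixed_pair hF ω x hx hxn
  have hne : s * t * s⁻¹ ≠ 1 := by
    intro h
    apply ht1
    calc t = s⁻¹ * (s * t * s⁻¹) * s := by group
      _ = 1 := by rw [h]; group
  have hfix : (s * t * s⁻¹) • (s • ω) = s • ω := by
    rw [smul_smul]
    have : s * t * s⁻¹ * s = s * t := by group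
    rw [this, ← smul_smul, mem_stabilizer_iff.mp ht]
  rcases h3 _ hst hne _ hfix with h | h
  · exact Or.inl (mem_stabilizer_iff.mpr h)
  · right
    rw [mem_stabilizer_iff, ← smul_smul, h, smul_smul, inv_mul_cancel, one_smul]

/-- elements commuting with a non-identity element `t` of a stabilizer -/
theorem card_centralizer_le (hF : F3 P Ω) (ω : Ω) (x : P) (hx : x ∉ stabilizer P ω)
    (hxn : ∀ t, t ∈ stabilizer P ω ↔ x * t * x⁻¹ ∈ stabilizer P ω)
    (t : P) (ht : t ∈ stabilizer P ω) (ht1 : t ≠ 1)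
    (huniq : ∀ t' ∈ stabilizer P ω, t' = 1 ∨ t' = t) :
    Nat.card (Subgroup.centralizer ({t} : Set P)) ≤ 4 := by
  have hsub : ((Subgroup.centralizer ({t} : Set P) : Subgroup P) : Set P) ⊆
      {1, t, x, x * t} := by
    intro c hc
    have hc' : t * c = c * t := (mem_centralizer_singleton_iff' t c).mp hc
    have hconj : c * t * c⁻¹ = t := by
      calc c * t * c⁻¹ = (t * c) * c⁻¹ := by rw [hc']
        _ = t := by group
    have hmem : c * t * c⁻¹ ∈ stabilizer P ω := by rw [hconj]; exact ht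
    rcases mem_or_of_conj hF ω x hx hxn c t ht ht1 hmem with h | h
    · rcases huniq c h with h' | h'
      · rw [h']; simp
      · rw [h']; simp
    · rcases huniq _ h with h' | h'
      · have : c = x := by
          calc c = x * (x⁻¹ * c) := by group
            _ = x := by rw [h', mul_one]
        rw [this]; simp
      · have : c = x * t := by
          calc c = x * (x⁻¹ * c) := by group
            _ = x * t := by rw [h']
        rw [this]; simp
  have h1 : Nat.card (Subgroup.centralizer ({t} : Set P)) =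
      Set.ncard ((Subgroup.centralizer ({t} : Set P) : Subgroup P) : Set P) :=
    (Nat.card_coe_set_eq _)
  rw [h1]
  calc Set.ncard ((Subgroup.centralizer ({t} : Set P) : Subgroup P) : Set P)
      ≤ Set.ncard ({1, t, x, x * t} : Set P) := Set.ncard_le_ncard hsub (Set.toFinite _)
    _ ≤ 4 := by
      have h2 := Set.ncard_insert_le (1 : P) ({t, x, x * t} : Set P)
      have h3 := Set.ncard_insert_le t ({x, x * t} : Set P)
      have h4 := Set.ncard_insert_le x ({x * t} : Set P)
      have h5 : Set.ncard ({x * t} : Set P) = 1 := Set.ncard_singleton _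
      omega

end

end Cfsg.Agent.S3390L
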