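import Mathlib
import Cfsg.Prelude.Def_Solvable
import Cfsg.Agent.H1.FrobeniusCount
import Cfsg.Agent.Lib.S3390.PermA

/-! # S3390, part E (helper8): a point stabilizer in a group of fixity two has at most one
non-regular orbit; the resulting Frobenius complement -/

set_option autoImplicit false
set_option linter.unusedVariables false
set_option linter.style.haveILetI false
set_option linter.unusedSectionVars false

namespace Cfsg.Agent.S3390L

open MulAction
open scoped Pointwise

universe u v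

section

variable {K : Type u} [Group K] [Finite K] {Ω : Type v} [MulAction K Ω]

theorem stab_conj_disjoint (hF : F3 K Ω) (α : Ω) (hα : ∀ k : K, k • α = α) (δ : Ω) (hδ : δ ≠ α)
    (g : K) (hg : g ∉ stabilizer K δ) :
    stabilizer K δ ⊓ (MulAut.conj g • stabilizer K δ) = ⊥ := by
  rw [eq_bot_iff]
  intro k hk
  rw [Subgroup.mem_bot]
  obtain ⟨hk1, hk2⟩ := Subgroup.mem_inf.mp hk
  rw [Cfsg.Agent.H1.mem_conj_smul_iff', mem_stabilizer_iff] at hk2
  rw [mem_stabilizer_iff] at hk1
  by_contra hne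
  have h1 : g • δ ≠ δ := fun h => hg (mem_stabilizer_iff.mpr h)
  have h2 : g • δ ≠ α := by
    intro h
    apply hδ
    calc δ = g⁻¹ • (g • δ) := by rw [smul_smul, inv_mul_cancel, one_smul]
      _ = α := by rw [h, hα]
  have h3 : k • (g • δ) = g • δ := by
    calc k • (g • δ) = g • ((g⁻¹ * k * g) • δ) := by
          rw [smul_smul, smul_smul]; congr 1; group
      _ = g • δ := by rw [hk2]
  exact hF k hne α δ (g • δ) hδ.symm h2.symm h1.symm (hα k) hk1 h3

/-- a point stabilizer has at most one non-regular orbit on the remaining points -/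
theorem same_orbit (hF : F3 K Ω) (α : Ω) (hα : ∀ k : K, k • α = α) (δ ε : Ω) (hδ : δ ≠ α)
    (hε : ε ≠ α) (hδ1 : stabilizer K δ ≠ ⊥) (hε1 : stabilizer K ε ≠ ⊥) :
    ∃ k : K, k • δ = ε := by
  by_contra hno
  push Not at hno
  set C : Subgroup K := stabilizer K δ with hC
  set A : Subgroup K := stabilizer K ε with hA
  have hδε : δ ≠ ε := fun h => hno 1 (by rw [one_smul]; exact h)
  have htop : ∀ (δ' ε' : Ω), δ' ≠ α → ε' ≠ α → δ' ≠ ε' → stabilizer K ε' ≠ ⊥ →
      stabilizer K δ' ≠ ⊤ := by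
    intro δ' ε' h1 h2 h3 h4 h5
    obtain ⟨a, ha⟩ := (Subgroup.ne_bot_iff_exists_ne_one).mp h4
    have ha1 : a.1 ≠ 1 := fun h => ha (Subtype.ext h)
    have ha2 : a.1 • δ' = δ' := by
      have : a.1 ∈ stabilizer K δ' := h5 ▸ Subgroup.mem_top _
      exact mem_stabilizer_iff.mp this
    exact hF a.1 ha1 α δ' ε' h1.symm h2.symm h3 (hα _) ha2 (mem_stabilizer_iff.mp a.2)
  have hCF : Cfsg.IsFrobeniusComplement C :=
    ⟨hδ1, htop δ ε hδ hε hδε hε1, fun g hg => stab_conj_disjoint hF α hα δ hδ g hg⟩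
  have hAF : Cfsg.IsFrobeniusComplement A :=
    ⟨hε1, htop ε δ hε hδ hδε.symm hδ1, fun g hg => stab_conj_disjoint hF α hα ε hε g hg⟩
  have hcC := Cfsg.Agent.H1.card_frobeniusKernel C hCF
  have hcA := Cfsg.Agent.H1.card_frobeniusKernel A hAF
  rw [Nat.card_coe_set_eq] at hcC hcA
  have hsub : (Cfsg.frobeniusKernel A)ᶜ ⊆ Cfsg.frobeniusKernel C \ {1} := by
    intro y hy
    simp only [Set.mem_compl_iff, Cfsg.frobeniusKernel, Set.mem_ofPred_eq, not_or, not_forall,
      not_not] at hy
    obtain ⟨hy1, g, hyg⟩ := hy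
    rw [Cfsg.Agent.H1.mem_conj_smul_iff', hA, mem_stabilizer_iff] at hyg
    have hfixε : y • (g • ε) = g • ε := by
      calc y • (g • ε) = g • ((g⁻¹ * y * g) • ε) := by
            rw [smul_smul, smul_smul]; congr 1; group
        _ = g • ε := by rw [hyg]
    refine ⟨?_, hy1⟩
    right
    intro g' hyg'
    rw [Cfsg.Agent.H1.mem_conj_smul_iff', hC, mem_stabilizer_iff] at hyg'
    have hfixδ : y • (g' • δ) = g' • δ := by
      calc y • (g' • δ) = g' • ((g'⁻¹ * y * g') • δ) := by
            rw [smul_smul, smul_smul]; congr 1; group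
        _ = g' • δ := by rw [hyg']
    have h1 : g • ε ≠ α := by
      intro h
      apply hε
      calc ε = g⁻¹ • (g • ε) := by rw [smul_smul, inv_mul_cancel, one_smul]
        _ = α := by rw [h, hα]
    have h2 : g' • δ ≠ α := by
      intro h
      apply hδ
      calc δ = g'⁻¹ • (g' • δ) := by rw [smul_smul, inv_mul_cancel, one_smul]
        _ = α := by rw [h, hα]
    have h3 : g' • δ ≠ g • ε := by
      intro h
      apply hno (g⁻¹ * g')
      rw [← smul_smul, h, smul_smul, inv_mul_cancel, one_smul]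
    exact hF y hy1 α (g' • δ) (g • ε) h2.symm h1.symm h3 (hα y) hfixδ hfixε
  have h1 := Set.ncard_le_ncard hsub (Set.toFinite _)
  have h2 := Set.ncard_add_ncard_compl (Cfsg.frobeniusKernel A)
  have h3 : (Cfsg.frobeniusKernel C \ {1}).ncard = (Cfsg.frobeniusKernel C).ncard - 1 :=
    Set.ncard_sdiff_singleton_of_mem (Or.inl rfl)
  have hCmul := C.card_mul_index
  have hAmul := A.card_mul_index
  have hC2 : 2 ≤ Nat.card C := by
    haveI : Nontrivial C := (Subgroup.nontrivial_iff_ne_bot _).mpr hδ1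
    exact Finite.one_lt_card
  have hA2 : 2 ≤ Nat.card A := by
    haveI : Nontrivial A := (Subgroup.nontrivial_iff_ne_bot _).mpr hε1
    exact Finite.one_lt_card
  have hd : 2 * C.index ≤ Nat.card K := by
    rw [← hCmul]; exact Nat.mul_le_mul_right _ hC2
  have he : 2 * A.index ≤ Nat.card K := by
    rw [← hAmul]; exact Nat.mul_le_mul_right _ hA2
  have hd1 : 1 ≤ C.index := Nat.pos_of_ne_zero Subgroup.index_ne_zero_of_finite
  rw [h3, hcC] at h1
  rw [hcA] at h2
  omega

end

section

variable {G : Type u} [Group G] [Finite G] {Ω : Type v} [MulAction G Ω]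

theorem F3_subgroup (hF : F3 G Ω) (K : Subgroup G) : F3 K Ω := by
  intro k hk a b c hab hac hbc ha hb hc
  exact hF k.1 (fun h => hk (Subtype.ext h)) a b c hab hac hbc ha hb hc

theorem frobenius_complement_of (hF : F3 G Ω) (hfaith : ∀ g : G, (∀ ω : Ω, g • ω = ω) → g = 1)
    [IsPretransitive G Ω] (α : Ω) (N : Subgroup G) [hN : N.Normal] (x : G) (hxN : x ∉ N)
    (hstab : stabilizer G α ≤ N) (t : G) (ht : t ∈ stabilizer G α) (ht1 : t ≠ 1)
    (htx : t • (x • α) = x • α) :
    Cfsg.IsFrobeniusComplement ((stabilizer G α).subgroupOf N) := by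
  refine ⟨?_, ?_, ?_⟩
  · intro h
    have : (⟨t, hstab ht⟩ : N) ∈ (stabilizer G α).subgroupOf N := Subgroup.mem_subgroupOf.mpr ht
    rw [h, Subgroup.mem_bot] at this
    exact ht1 (congrArg Subtype.val this)
  · intro h
    rw [Subgroup.subgroupOf_eq_top] at h
    apply ht1
    apply hfaith
    intro ω
    obtain ⟨g, rfl⟩ := exists_smul_eq G α ω
    have h1 : g⁻¹ * t * g ∈ stabilizer G α := by
      apply h
      have := hN.conj_mem t (hstab ht) g⁻¹
      simpa using this
    rw [mem_stabilizer_iff] at h1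
    calc t • (g • α) = g • ((g⁻¹ * t * g) • α) := by
          rw [smul_smul, smul_smul]; congr 1; group
      _ = g • α := by rw [h1]
  · intro g hg
    rw [Subgroup.mem_subgroupOf] at hg
    rw [eq_bot_iff]
    intro h hh
    rw [Subgroup.mem_bot]
    obtain ⟨hh1, hh2⟩ := Subgroup.mem_inf.mp hh
    rw [Subgroup.mem_subgroupOf] at hh1
    rw [Cfsg.Agent.H1.mem_conj_smul_iff', Subgroup.mem_subgroupOf] at hh2
    by_contra hne
    have hne' : h.1 ≠ 1 := fun e => hne (Subtype.ext e)
    have hh2' : (g.1⁻¹ * h.1 * g.1) • α = α := by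
      have := mem_stabilizer_iff.mp hh2
      simpa using this
    have hfix : h.1 • (g.1 • α) = g.1 • α := by
      calc h.1 • (g.1 • α) = g.1 • ((g.1⁻¹ * h.1 * g.1) • α) := by
            rw [smul_smul, smul_smul]; congr 1; group
        _ = g.1 • α := by rw [hh2']
    set K : Subgroup G := stabilizer G α with hK
    have hx : x ∉ K := fun h' => hxN (hstab h')
    have hxα : x • α ≠ α := fun h' => hx (mem_stabilizer_iff.mpr h')
    have hgα : g.1 • α ≠ α := fun h' => hg (mem_stabilizer_iff.mpr h')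
    have hKα : ∀ k : K, k • α = α := fun k => mem_stabilizer_iff.mp k.2
    have hδ1 : stabilizer K (x • α) ≠ ⊥ := by
      intro h'
      have : (⟨t, ht⟩ : K) ∈ stabilizer K (x • α) := mem_stabilizer_iff.mpr htx
      rw [h', Subgroup.mem_bot] at this
      exact ht1 (congrArg Subtype.val this)
    have hε1 : stabilizer K (g.1 • α) ≠ ⊥ := by
      intro h'
      have : (⟨h.1, hh1⟩ : K) ∈ stabilizer K (g.1 • α) := mem_stabilizer_iff.mpr hfix
      rw [h', Subgroup.mem_bot] at this
      exact hne' (congrArg Subtype.val this)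
    obtain ⟨k, hk⟩ := same_orbit (F3_subgroup hF K) α hKα (x • α) (g.1 • α) hxα hgα hδ1 hε1
    have hk' : (k.1 * x) • α = g.1 • α := by
      rw [← smul_smul]; exact hk
    have hm : (k.1 * x)⁻¹ * g.1 ∈ K := by
      show (k.1 * x)⁻¹ * g.1 ∈ stabilizer G α
      rw [mem_stabilizer_iff, ← smul_smul, ← hk', smul_smul, inv_mul_cancel, one_smul]
    apply hxN
    have e : x = k.1⁻¹ * g.1 * ((k.1 * x)⁻¹ * g.1)⁻¹ := by group
    rw [e]
    exact N.mul_mem (N.mul_mem (N.inv_mem (hstab k.2)) g.2) (N.inv_mem (hstab hm))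

end

end Cfsg.Agent.S3390L
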