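import Mathlib
import Cfsg.Agent.Lib.S3390.PermA

/-! # S3390, part C (helper8): a `2`-group acting with fixity at most two — the structure theorem -/

set_option autoImplicit false
set_option linter.unusedVariables false
set_option linter.style.haveILetI false
set_option linter.unusedSectionVars false

namespace Cfsg.Agent.S3390L

open MulAction

universe u v

variable {P : Type u} [Group P] [Finite P] {Ω : Type v} [MulAction P Ω]

theorem exists_ne_one_of_ne_bot {H : Subgroup P} (h : H ≠ ⊥) : ∃ t ∈ H, t ≠ 1 := by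
  obtain ⟨a, ha⟩ := (Subgroup.ne_bot_iff_exists_ne_one).mp h
  exact ⟨a.1, a.2, fun h1 => ha (Subtype.ext h1)⟩

theorem caseA (hP : IsPGroup 2 P) (hF : F3 P Ω) (α : Ω) (x : P) (hx : x ∉ stabilizer P α)
    (hxn : ∀ t, t ∈ stabilizer P α ↔ x * t * x⁻¹ ∈ stabilizer P α)
    (hT1 : stabilizer P α ≠ ⊥) (s : P) (hs1 : s ∉ stabilizer P α)
    (hs2 : x⁻¹ * s ∉ stabilizer P α) :
    ((∃ n : ℕ, Nonempty (P ≃* DihedralGroup n)) ∨ Cfsg.IsQuasiDihedral P) ∧
      Nat.card (stabilizer P α) = 2 := by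
  haveI : Fact (Nat.Prime 2) := ⟨Nat.prime_two⟩
  set T : Subgroup P := stabilizer P α with hT
  set M : Subgroup P := Subgroup.normalizer (T : Set P) with hM
  have hTM : T ≤ M := Subgroup.le_normalizer
  have hxM : x ∈ M := Subgroup.mem_normalizer_iff.mpr hxn
  obtain ⟨t, ht, ht1⟩ := exists_ne_one_of_ne_bot hT1
  have hMor : ∀ m ∈ M, m ∈ T ∨ x⁻¹ * m ∈ T := fun m hm =>
    mem_or_of_conj hF α x hx hxn m t ht ht1 ((Subgroup.mem_normalizer_iff.mp hm t).mp ht)
  have hMtop : M ≠ ⊤ := by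
    intro h
    have : s ∈ M := h ▸ Subgroup.mem_top s
    rcases hMor s this with h' | h'
    · exact hs1 h'
    · exact hs2 h'
  haveI := hP.isNilpotent
  have hnc := Group.normalizerCondition_of_isNilpotent (G := P)
  have hlt := hnc M (lt_top_iff_ne_top.mpr hMtop)
  obtain ⟨y, hyN, hyM⟩ := SetLike.exists_of_lt hlt
  have hdisj : ∀ t' ∈ T, t' ≠ 1 → y * t' * y⁻¹ ∉ T := by
    intro t' ht' ht'1 hcon
    rcases mem_or_of_conj hF α x hx hxn y t' ht' ht'1 hcon with h | h
    · exact hyM (hTM h)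
    · apply hyM
      have : y = x * (x⁻¹ * y) := by group
      rw [this]
      exact M.mul_mem hxM (hTM h)
  have hconjM : ∀ t' ∈ T, y * t' * y⁻¹ ∈ M := fun t' ht' =>
    (Subgroup.mem_normalizer_iff.mp hyN t').mp (hTM ht')
  have hxT : ∀ t' ∈ T, t' ≠ 1 → x⁻¹ * (y * t' * y⁻¹) ∈ T := by
    intro t' ht' ht'1
    rcases hMor _ (hconjM t' ht') with h | h
    · exact absurd h (hdisj t' ht' ht'1)
    · exact h
  have huniq : ∀ t' ∈ T, t' = 1 ∨ t' = t := by
    intro t' ht'
    by_contra hcon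
    push Not at hcon
    have h1 := hxT t ht ht1
    have h2 := hxT t' ht' hcon.1
    have h3 : (x⁻¹ * (y * t * y⁻¹))⁻¹ * (x⁻¹ * (y * t' * y⁻¹)) ∈ T :=
      T.mul_mem (T.inv_mem h1) h2
    have e : (x⁻¹ * (y * t * y⁻¹))⁻¹ * (x⁻¹ * (y * t' * y⁻¹)) = y * (t⁻¹ * t') * y⁻¹ := by
      group
    rw [e] at h3
    have h4 : t⁻¹ * t' ≠ 1 := by
      intro h
      apply hcon.2
      calc t' = t * (t⁻¹ * t') := by group
        _ = t := by rw [h, mul_one]
    exact hdisj _ (T.mul_mem (T.inv_mem ht) ht') h4 h3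
  have hcard : Nat.card T = 2 := by
    rw [Nat.card_eq_two_iff]
    refine ⟨1, ⟨t, ht⟩, fun h => ht1 (congrArg Subtype.val h).symm, ?_⟩
    ext ⟨z, hz⟩
    simp only [Set.mem_insert_iff, Set.mem_singleton_iff, Set.mem_univ, iff_true]
    rcases huniq z hz with h | h
    · left; exact Subtype.ext h
    · right; exact Subtype.ext h
  have htt : t * t = 1 := by
    rcases huniq (t * t) (T.mul_mem ht ht) with h | h
    · exact h
    · exfalso; apply ht1
      calc t = t⁻¹ * (t * t) := by group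
        _ = 1 := by rw [h]; group
  have hC := card_centralizer_le hF α x hx hxn t ht ht1 huniq
  have hncomm : t * y ≠ y * t := by
    intro h
    apply hdisj t ht ht1
    have : y * t * y⁻¹ = t := by
      calc y * t * y⁻¹ = (t * y) * y⁻¹ := by rw [h]
        _ = t := by group
    rw [this]; exact ht
  exact ⟨dihedral_or_qd' hP t ht1 htt hC ⟨y, hncomm⟩, hcard⟩

/-- a group of order four with two distinct involutions is a Klein four-group -/
theorem isKleinFour_of_two_involutions (h4 : Nat.card P = 4) (t u : P) (ht1 : t ≠ 1)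
    (hu1 : u ≠ 1) (htu : t ≠ u) (htt : t * t = 1) (huu : u * u = 1) : IsKleinFour P := by
  classical
  have hsq : ∀ c : P, c * c = 1 := by
    intro c
    by_contra hc
    have h1 : orderOf c ∣ 2 ^ 2 := by
      have := orderOf_dvd_natCard c
      rw [h4] at this
      exact this
    obtain ⟨k, hk, hk2⟩ := (Nat.dvd_prime_pow Nat.prime_two).mp h1
    have hk' : k = 2 := by
      interval_cases k
      · exfalso
        rw [pow_zero, orderOf_eq_one_iff] at hk2
        apply hc; rw [hk2, mul_one]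
      · exfalso
        apply hc
        rw [← pow_two]
        have := pow_orderOf_eq_one c
        rwa [hk2, pow_one] at this
      · rfl
    rw [hk'] at hk2
    haveI : IsCyclic P := isCyclic_of_orderOf_eq_card c (by rw [hk2, h4]; norm_num)
    letI : Fintype P := Fintype.ofFinite P
    have h2 := IsCyclic.card_pow_eq_one_le (α := P) (n := 2) (by norm_num)
    have h3 : ({1, t, u} : Finset P) ⊆ Finset.univ.filter (fun a : P => a ^ 2 = 1) := by
      intro z hz
      simp only [Finset.mem_insert, Finset.mem_singleton] at hz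
      simp only [Finset.mem_filter, Finset.mem_univ, true_and]
      rcases hz with rfl | rfl | rfl
      · simp
      · rw [pow_two]; exact htt
      · rw [pow_two]; exact huu
    have h4' : ({1, t, u} : Finset P).card = 3 := by
      rw [Finset.card_insert_of_notMem, Finset.card_insert_of_notMem, Finset.card_singleton]
      · simpa using htu
      · simp only [Finset.mem_insert, Finset.mem_singleton, not_or]
        exact ⟨fun h => ht1 h.symm, fun h => hu1 h.symm⟩
    have := Finset.card_le_card h3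
    omega
  refine ⟨h4, ?_⟩
  have h1 : Monoid.exponent P ∣ 2 := by
    rw [Monoid.exponent_dvd_iff_forall_pow_eq_one]
    intro g
    rw [pow_two]; exact hsq g
  have h2 : Monoid.exponent P ≠ 1 := by
    intro h
    rw [Monoid.exp_eq_one_iff] at h
    exact ht1 (Subsingleton.elim t 1)
  rcases (Nat.dvd_prime Nat.prime_two).mp h1 with h | h
  · exact absurd h h2
  · exact h

theorem caseB (hP : IsPGroup 2 P) (hF : F3 P Ω) (α : Ω) (x : P) (hx : x ∉ stabilizer P α)
    (hxn : ∀ t, t ∈ stabilizer P α ↔ x * t * x⁻¹ ∈ stabilizer P α)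
    (hT1 : stabilizer P α ≠ ⊥)
    (hB : ∀ s : P, s ∈ stabilizer P α ∨ x⁻¹ * s ∈ stabilizer P α) :
    (stabilizer P α).index = 2 ∧
    (((∃ n : ℕ, Nonempty (P ≃* DihedralGroup n)) ∨ Cfsg.IsQuasiDihedral P) ∨
      (∀ ω : Ω, ω ≠ α → ω ≠ x • α → ∀ u : P, u • ω = ω → u = 1)) := by
  haveI : Fact (Nat.Prime 2) := ⟨Nat.prime_two⟩
  set T : Subgroup P := stabilizer P α with hT
  obtain ⟨t, ht, ht1⟩ := exists_ne_one_of_ne_bot hT1
  obtain ⟨hxα, hfixβ, hfix2⟩ := fixed_pair hF α x hx hxn
  have hidx : T.index = 2 := by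
    rw [Subgroup.index_eq_two_iff]
    refine ⟨x, fun b => ?_⟩
    have hb := hB b⁻¹
    by_cases hbT : b ∈ T
    · right
      refine ⟨hbT, fun h => hx ?_⟩
      have : x = b⁻¹ * (b * x) := by group
      rw [this]; exact T.mul_mem (T.inv_mem hbT) h
    · left
      refine ⟨?_, hbT⟩
      rcases hb with h | h
      · exact absurd (T.inv_mem_iff.mp h) hbT
      · have h2 := T.inv_mem h
        have e : (x⁻¹ * b⁻¹)⁻¹ = b * x := by group
        rwa [e] at h2
  refine ⟨hidx, ?_⟩
  by_cases hB1 : ∃ ω : Ω, ω ≠ α ∧ ω ≠ x • α ∧ ∃ u : P, u ≠ 1 ∧ u • ω = ω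
  swap
  · right
    intro ω h1 h2 u hu
    by_contra hu1
    exact hB1 ⟨ω, h1, h2, u, hu1, hu⟩
  left
  obtain ⟨ω, hω1, hω2, u, hu1, huω⟩ := hB1
  set Tω : Subgroup P := stabilizer P ω with hTω
  have huTω : u ∈ Tω := mem_stabilizer_iff.mpr huω
  have hTωT : ∀ v ∈ Tω, v ∈ T → v = 1 := by
    intro v hv hvT
    by_contra hv1
    rcases hfix2 v hvT hv1 ω (mem_stabilizer_iff.mp hv) with h | h
    · exact hω1 h
    · exact hω2 h
  have huT : u ∉ T := fun h => hu1 (hTωT u huTω h)
  have huniq : ∀ v ∈ Tω, v = 1 ∨ v = u := by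
    intro v hv
    by_cases hvT : v ∈ T
    · exact Or.inl (hTωT v hv hvT)
    · right
      have h1 : u⁻¹ * v ∈ T := by
        rw [Subgroup.mul_mem_iff_of_index_two hidx, T.inv_mem_iff]
        exact ⟨fun h => absurd h huT, fun h => absurd h hvT⟩
      have h2 := hTωT _ (Tω.mul_mem (Tω.inv_mem huTω) hv) h1
      calc v = u * (u⁻¹ * v) := by group
        _ = u := by rw [h2, mul_one]
  have huu : u * u = 1 := by
    rcases huniq (u * u) (Tω.mul_mem huTω huTω) with h | h
    · exact h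
    · exfalso; apply hu1
      calc u = u⁻¹ * (u * u) := by group
        _ = 1 := by rw [h]; group
  have hTωtop : Tω ≠ ⊤ := by
    intro h
    have : t ∈ Tω := h ▸ Subgroup.mem_top t
    exact ht1 (hTωT t this ht)
  obtain ⟨xω, hxω, hxnω⟩ := exists_normalizing hP ω hTωtop
  have hC := card_centralizer_le hF ω xω hxω hxnω u huTω hu1 huniq
  by_cases hnc : ∃ g : P, u * g ≠ g * u
  · exact dihedral_or_qd' hP u hu1 huu hC hnc
  · push Not at hnc
    left
    have htop : Subgroup.centralizer ({u} : Set P) = ⊤ := by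
      rw [eq_top_iff]
      intro g _
      rw [mem_centralizer_singleton_iff']
      exact hnc g
    rw [htop, Subgroup.card_top] at hC
    have hmul := T.card_mul_index
    rw [hidx] at hmul
    have hT2 : 2 ≤ Nat.card T := by
      haveI : Nontrivial T := (Subgroup.nontrivial_iff_ne_bot _).mpr hT1
      exact Finite.one_lt_card
    have hP4 : Nat.card P = 4 := by omega
    have hTcard : Nat.card T = 2 := by omega
    have htt : t * t = 1 := by
      have := pow_card_eq_one' (G := T) (x := ⟨t, ht⟩)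
      rw [hTcard] at this
      have h2 := congrArg Subtype.val this
      rw [Subgroup.coe_pow, Subgroup.coe_one] at h2
      rw [← pow_two]; exact h2
    have htu : t ≠ u := fun h => huT (h ▸ ht)
    haveI := isKleinFour_of_two_involutions hP4 t u ht1 hu1 htu htt huu
    exact ⟨2, IsKleinFour.nonempty_mulEquiv⟩

/-- **Structure theorem** for a `2`-group acting with fixity at most two. -/
theorem structure_P (hP : IsPGroup 2 P) (hF : F3 P Ω) (α : Ω)
    (h1 : stabilizer P α ≠ ⊥) (h2 : stabilizer P α ≠ ⊤) :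
    (((∃ n : ℕ, Nonempty (P ≃* DihedralGroup n)) ∨ Cfsg.IsQuasiDihedral P) ∧
      (Nat.card (stabilizer P α) = 2 ∨ (stabilizer P α).index = 2)) ∨
    ((stabilizer P α).index = 2 ∧ ∃ x : P, x ∉ stabilizer P α ∧
      (∀ t, t ∈ stabilizer P α ↔ x * t * x⁻¹ ∈ stabilizer P α) ∧
      ∀ ω : Ω, ω ≠ α → ω ≠ x • α → ∀ u : P, u • ω = ω → u = 1) := by
  obtain ⟨x, hx, hxn⟩ := exists_normalizing hP α h2
  by_cases hB : ∀ s : P, s ∈ stabilizer P α ∨ x⁻¹ * s ∈ stabilizer P α
  · obtain ⟨hidx, h | h⟩ := caseB hP hF α x hx hxn h1 hB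
    · exact Or.inl ⟨h, Or.inr hidx⟩
    · exact Or.inr ⟨hidx, x, hx, hxn, h⟩
  · push Not at hB
    obtain ⟨s, hs1, hs2⟩ := hB
    obtain ⟨h, hc⟩ := caseA hP hF α x hx hxn h1 s hs1 hs2
    exact Or.inl ⟨h, Or.inl hc⟩

end Cfsg.Agent.S3390L
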