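import Mathlib

/-! # S3390, part D (helper8): a transfer argument producing a normal subgroup of index two -/

set_option autoImplicit false
set_option linter.unusedVariables false
set_option linter.style.haveILetI false

namespace Cfsg.Agent.S3390L

universe u

/-- the homomorphism onto `±1` with kernel a subgroup of index two -/
noncomputable def signHom {H : Type u} [Group H] (K : Subgroup H) (hK : K.index = 2) : H →* ℤˣ where
  toFun h := by classical exact if h ∈ K then 1 else -1
  map_one' := by simp [K.one_mem]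
  map_mul' a b := by
    classical
    have := Subgroup.mul_mem_iff_of_index_two hK (a := a) (b := b)
    by_cases ha : a ∈ K <;> by_cases hb : b ∈ K <;> simp [ha, hb, this]

theorem signHom_eq_one_iff {H : Type u} [Group H] (K : Subgroup H) (hK : K.index = 2) (h : H) :
    signHom K hK h = 1 ↔ h ∈ K := by
  classical
  unfold signHom
  by_cases hh : h ∈ K <;> simp [hh]

open scoped IsMulCommutative in
/-- a variant of Mathlib's `transfer_eq_pow`: only the values of `ϕ` are required to agree -/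
theorem transfer_eq_pow_of_fusion {G : Type u} [Group G] {A : Type*} [CommGroup A]
    (H : Subgroup G) [H.FiniteIndex] (ϕ : H →* A) (g : G) (hg : g ∈ H)
    (key : ∀ (k : ℕ) (g₀ : G) (hk : g₀⁻¹ * g ^ k * g₀ ∈ H),
      ϕ ⟨g₀⁻¹ * g ^ k * g₀, hk⟩ = ϕ ⟨g, hg⟩ ^ k) :
    MonoidHom.transfer ϕ g = ϕ ⟨g, hg⟩ ^ H.index := by
  classical
  haveI : Finite (G ⧸ H) := Subgroup.finite_quotient_of_finiteIndex
  have : Fintype (Quotient (MulAction.orbitRel (Subgroup.zpowers g) (G ⧸ H))) :=
    Fintype.ofFinite _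
  rw [Subgroup.index_eq_sum_minimalPeriod H g, ← Finset.prod_pow_eq_pow_sum,
    MonoidHom.transfer_eq_prod_quotient_orbitRel_zpowers_quot]
  apply Finset.prod_congr rfl
  intro q _
  exact key _ _ _

theorem exists_index_two_of_fusion {G : Type u} [Group G] [Finite G] S
    (hodd : Odd S.index)
    (T : Subgroup G) (hTS : T ≤ S)
    (hidx : (T.subgroupOf S).index = 2)
    (hfus : ∀ a ∈ S, ∀ g : G, g⁻¹ * a * g ∈ S →
      (a ∈ T ↔ g⁻¹ * a * g ∈ T)) :
    ∃ N : Subgroup G, N.Normal ∧ N.index = 2 ∧ ∀ a ∈ S, a ∈ N ↔ a ∈ T := by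
  classical
  set ϕ : S →* ℤˣ := signHom (T.subgroupOf S) hidx with hϕ
  set V : G →* ℤˣ := MonoidHom.transfer ϕ with hV
  have hVS : ∀ (a : G) (ha : a ∈ S), V a = ϕ ⟨a, ha⟩ := by
    intro a ha
    have h1 := transfer_eq_pow_of_fusion S ϕ a ha (by
      intro k g₀ hk
      rw [← map_pow]
      have hak : a ^ k ∈ S := S.pow_mem ha k
      have h2 := hfus (a ^ k) hak g₀ hk
      rcases Int.units_eq_one_or (ϕ ⟨g₀⁻¹ * a ^ k * g₀, hk⟩) with h3 | h3 <;>
      rcases Int.units_eq_one_or (ϕ (⟨a, ha⟩ ^ k)) with h4 | h4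
      · rw [h3, h4]
      · exfalso
        rw [hϕ, signHom_eq_one_iff, Subgroup.mem_subgroupOf] at h3
        have h5 : a ^ k ∈ T := h2.mpr h3
        have h6 : ϕ (⟨a, ha⟩ ^ k) = 1 := by
          rw [hϕ, signHom_eq_one_iff, Subgroup.mem_subgroupOf]
          exact h5
        rw [h6] at h4
        exact absurd h4 (by decide)
      · exfalso
        rw [hϕ, signHom_eq_one_iff, Subgroup.mem_subgroupOf] at h4
        have h5 : g₀⁻¹ * a ^ k * g₀ ∈ T := h2.mp h4
        have h6 : ϕ ⟨g₀⁻¹ * a ^ k * g₀, hk⟩ = 1 := by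
          rw [hϕ, signHom_eq_one_iff, Subgroup.mem_subgroupOf]
          exact h5
        rw [h6] at h3
        exact absurd h3 (by decide)
      · rw [h3, h4])
    rw [hV, h1]
    rcases Int.units_eq_one_or (ϕ ⟨a, ha⟩) with h | h
    · rw [h, one_pow]
    · rw [h, hodd.neg_one_pow]
  have hmem : ∀ a ∈ S, a ∈ V.ker ↔ a ∈ T := by
    intro a ha
    rw [MonoidHom.mem_ker, hVS a ha, hϕ, signHom_eq_one_iff, Subgroup.mem_subgroupOf]
  refine ⟨V.ker, inferInstance, ?_, hmem⟩
  -- some element of `S` lies outside `T`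
  obtain ⟨x, hx⟩ : ∃ x : S, x ∉ T.subgroupOf S := by
    by_contra hcon
    push Not at hcon
    have : T.subgroupOf S = ⊤ := (Subgroup.eq_top_iff' _).mpr hcon
    rw [this, Subgroup.index_top] at hidx
    omega
  have hVx : V x.1 = -1 := by
    rw [hVS x.1 x.2]
    rcases Int.units_eq_one_or (ϕ ⟨x.1, x.2⟩) with h | h
    · exfalso
      rw [hϕ, signHom_eq_one_iff] at h
      exact hx h
    · exact h
  rw [Subgroup.index_eq_two_iff]
  refine ⟨x.1, fun b => ?_⟩
  rw [MonoidHom.mem_ker, MonoidHom.mem_ker, map_mul, hVx]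
  rcases Int.units_eq_one_or (V b) with h | h <;> rw [h] <;> simp

end Cfsg.Agent.S3390L
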