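import Mathlib
import Cfsg.Prelude.Def_Solvable
import Cfsg.Prelude.Def_CaseTheorems
import Cfsg.Agent.Lib.S3390.PermB
import Cfsg.Agent.Lib.S3390.TransferA
import Cfsg.Agent.Lib.S3390.FrobA

/-! # S3390, part F (helper8): assembly -/

set_option autoImplicit false
set_option linter.unusedVariables false
set_option linter.style.haveILetI false
set_option linter.unusedSectionVars false

namespace Cfsg.Agent.S3390L

open MulAction

universe u v

variable {G : Type u} [Group G] [Finite G] {Ω : Type v} [MulAction G Ω]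

theorem F3_of_card (hfix : ∀ g : G, g ≠ 1 → Nat.card (fixedBy Ω g) ≤ 2) [Finite Ω] : F3 G Ω := by
  intro g hg a b c hab hac hbc ha hb hc
  have h1 := hfix g hg
  rw [Nat.card_coe_set_eq] at h1
  have hsub : ({a, b, c} : Set Ω) ⊆ fixedBy Ω g := by
    intro z hz
    simp only [Set.mem_insert_iff, Set.mem_singleton_iff] at hz
    rcases hz with rfl | rfl | rfl
    · exact ha
    · exact hb
    · exact hc
  have h2 := Set.ncard_le_ncard hsub (Set.toFinite _)
  have h3 : ({a, b, c} : Set Ω).ncard = 3 := by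
    rw [Set.ncard_eq_three]
    exact ⟨a, b, c, hab, hac, hbc, rfl⟩
  omega

theorem mem_stabilizer_subgroup (S : Subgroup G) (α : Ω) (s : S) :
    s ∈ stabilizer S α ↔ s.1 ∈ stabilizer G α := by
  rw [mem_stabilizer_iff, mem_stabilizer_iff]
  rfl

theorem stabilizer_subgroup_eq (S : Subgroup G) (α : Ω) :
    stabilizer S α = (stabilizer G α).subgroupOf S := by
  ext s
  rw [mem_stabilizer_subgroup, Subgroup.mem_subgroupOf]

/-- the third alternative -/
theorem third_alt [Finite Ω] (hF : F3 G Ω) (hfaith : ∀ g : G, (∀ ω : Ω, g • ω = ω) → g = 1)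
    [IsPretransitive G Ω] (α : Ω) (P : Subgroup G) (hP : IsPGroup 2 P) (hodd : Odd P.index)
    (hne : stabilizer P α ≠ ⊥)
    (hidx : (stabilizer P α).index = 2)
    (x : P) (hx : x ∉ stabilizer P α)
    (hxn : ∀ t, t ∈ stabilizer P α ↔ x * t * x⁻¹ ∈ stabilizer P α)
    (hreg : ∀ ω : Ω, ω ≠ α → ω ≠ x • α → ∀ u : P, u • ω = ω → u = 1) :
    4 ≤ Nat.card P ∧
    (∃ ω : Ω, Nat.card (orbit P ω) = 2 ∧
      ∀ ω' : Ω, ω' ∉ orbit P ω → Nat.card (orbit P ω') = Nat.card P) ∧
    ∃ N : Subgroup G, N.Normal ∧ (N.index = 2 ∨ N.index = Nat.card P) ∧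
      ∃ H : Subgroup N, Cfsg.IsFrobeniusComplement H := by
  haveI : Fact (Nat.Prime 2) := ⟨Nat.prime_two⟩
  have hFP : F3 P Ω := F3_subgroup hF P
  set TP : Subgroup P := stabilizer P α with hTP
  have hmulP := TP.card_mul_index
  rw [hidx] at hmulP
  have hTP2 : 2 ≤ Nat.card TP := by
    haveI : Nontrivial TP := (Subgroup.nontrivial_iff_ne_bot _).mpr hne
    exact Finite.one_lt_card
  obtain ⟨hxα, hfixβ, hfix2⟩ := fixed_pair hFP α x hx hxn
  refine ⟨by omega, ⟨α, ?_, ?_⟩, ?_⟩
  · rw [Nat.card_coe_set_eq, ← index_stabilizer]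
    exact hidx
  · intro ω' hω'
    have h1 : ω' ≠ α := fun h => hω' (by rw [h]; exact mem_orbit_self α)
    have h2 : ω' ≠ x • α := fun h => hω' (by rw [h]; exact mem_orbit α x)
    have h3 : stabilizer P ω' = ⊥ := by
      rw [eq_bot_iff]
      intro u hu
      rw [Subgroup.mem_bot]
      exact hreg ω' h1 h2 u (mem_stabilizer_iff.mp hu)
    rw [Nat.card_coe_set_eq, ← index_stabilizer, h3, Subgroup.index_bot]
  -- the normal subgroup of index two
  set T : Subgroup G := P ⊓ stabilizer G α with hT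
  have hTsub : T.subgroupOf P = TP := by
    rw [hT, Subgroup.inf_subgroupOf_left, hTP, stabilizer_subgroup_eq]
  have hmemT : ∀ a : G, ∀ ha : a ∈ P, a ∈ T ↔ (⟨a, ha⟩ : P) ∈ TP := by
    intro a ha
    rw [← hTsub, Subgroup.mem_subgroupOf]
  -- elements of `S` with a fixed point lie in `T`
  have hstar : ∀ a ∈ P, (∃ ω : Ω, a • ω = ω) → a ∈ T := by
    intro a ha ⟨ω, hω⟩
    rw [hmemT a ha]
    by_cases h1 : ω = α
    · rw [hTP, mem_stabilizer_iff]; rw [h1] at hω; exact hω
    by_cases h2 : ω = x • α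
    · have h3 : x⁻¹ * ⟨a, ha⟩ * x ∈ TP := by
        rw [hTP, mem_stabilizer_iff, ← smul_smul, ← smul_smul]
        have : (⟨a, ha⟩ : P) • (x • α) = x • α := by rw [← h2]; exact hω
        rw [this, smul_smul, inv_mul_cancel, one_smul]
      have h4 := (hxn _).mp h3
      have e : x * (x⁻¹ * ⟨a, ha⟩ * x) * x⁻¹ = ⟨a, ha⟩ := by group
      rw [e] at h4
      exact h4
    · have := hreg ω h1 h2 ⟨a, ha⟩ hω
      rw [this]; exact TP.one_mem
  have hfus : ∀ a ∈ P, ∀ g : G, g⁻¹ * a * g ∈ P → (a ∈ T ↔ g⁻¹ * a * g ∈ T) := by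
    intro a ha g hg
    constructor
    · intro h
      apply hstar _ hg
      refine ⟨g⁻¹ • α, ?_⟩
      have h1 : a • α = α := mem_stabilizer_iff.mp (Subgroup.mem_inf.mp h).2
      rw [smul_smul, mul_assoc, mul_inv_cancel, mul_one, ← smul_smul, h1]
    · intro h
      apply hstar _ ha
      refine ⟨g • α, ?_⟩
      have h1 : (g⁻¹ * a * g) • α = α := mem_stabilizer_iff.mp (Subgroup.mem_inf.mp h).2
      calc a • (g • α) = g • ((g⁻¹ * a * g) • α) := by
            rw [smul_smul, smul_smul]; congr 1; group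
        _ = g • α := by rw [h1]
  obtain ⟨N, hNn, hNidx, hNmem⟩ := exists_index_two_of_fusion P hodd T inf_le_left
    (by rw [hTsub]; exact hidx) hfus
  haveI := hNn
  have hxT : x.1 ∉ T := by
    rw [hmemT x.1 x.2]; exact hx
  have hxN : x.1 ∉ N := fun h => hxT ((hNmem x.1 x.2).mp h)
  have hTN : T ≤ N := fun a ha => (hNmem a (Subgroup.mem_inf.mp ha).1).mpr ha
  -- `|Ω|` is even
  have heven : Even (Nat.card Ω) := by
    have h1 := hP.card_modEq_card_fixedPoints Ω
    have h2 : fixedPoints P Ω = ∅ := by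
      rw [Set.eq_empty_iff_forall_notMem]
      intro ω hω
      apply hxT
      apply hstar x.1 x.2
      exact ⟨ω, hω x⟩
    rw [h2] at h1
    have h3 : Nat.card (∅ : Set Ω) = 0 := by simp
    rw [h3] at h1
    exact (Nat.even_iff).mpr h1
  -- the point stabilizer lies in `N`
  have hstab : stabilizer G α ≤ N := by
    by_contra hcon
    obtain ⟨k, hk, hkN⟩ := SetLike.not_le_iff_exists.mp hcon
    haveI : IsPretransitive N Ω := by
      refine ⟨fun a b => ?_⟩
      obtain ⟨g₁, hg₁⟩ := exists_smul_eq G a α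
      obtain ⟨g₂, hg₂⟩ := exists_smul_eq G α b
      -- `α` can be moved anywhere by `N`
      have key : ∀ g : G, ∃ n : N, n • α = g • α := by
        intro g
        by_cases hg : g ∈ N
        · exact ⟨⟨g, hg⟩, rfl⟩
        · have h1 : g * k⁻¹ ∈ N := by
            rw [Subgroup.mul_mem_iff_of_index_two hNidx, N.inv_mem_iff]
            exact ⟨fun h => absurd h hg, fun h => absurd h hkN⟩
          refine ⟨⟨g * k⁻¹, h1⟩, ?_⟩
          show (g * k⁻¹) • α = g • α
          rw [← smul_smul]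
          congr 1
          have : k • α = α := mem_stabilizer_iff.mp hk
          rw [inv_smul_eq_iff, this]
      obtain ⟨n₁, hn₁⟩ := key g₁⁻¹
      obtain ⟨n₂, hn₂⟩ := key g₂
      refine ⟨n₂ * n₁⁻¹, ?_⟩
      have ha : a = g₁⁻¹ • α := by rw [← hg₁, smul_smul, inv_mul_cancel, one_smul]
      calc (n₂ * n₁⁻¹) • a = (n₂ * n₁⁻¹) • (n₁ • α) := by rw [ha, hn₁]
        _ = n₂ • (n₁⁻¹ • (n₁ • α)) := by rw [mul_smul]
        _ = n₂ • α := by rw [inv_smul_smul]
        _ = b := by rw [hn₂, hg₂]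
    have h1 : (stabilizer N α).index = Nat.card Ω := index_stabilizer_of_transitive N α
    have h2 := (stabilizer N α).card_mul_index
    have h3 : Nat.card N * 2 = Nat.card G := by
      rw [← hNidx]; exact N.card_mul_index
    have h4 := P.card_mul_index
    -- `T` embeds in the stabilizer of `α` in `N`
    have h5 : Nat.card T ∣ Nat.card (stabilizer N α) := by
      have h6 : T.subgroupOf N ≤ stabilizer N α := by
        intro a ha
        rw [mem_stabilizer_subgroup]
        exact (Subgroup.mem_inf.mp (Subgroup.mem_subgroupOf.mp ha)).2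
      have h7 : Nat.card (T.subgroupOf N) = Nat.card T :=
        Nat.card_congr (Subgroup.subgroupOfEquivOfLe hTN).toEquiv
      rw [← h7]
      exact Subgroup.card_dvd_of_le h6
    have h8 : Nat.card T = Nat.card TP := by
      rw [← hTsub]
      exact (Nat.card_congr (Subgroup.subgroupOfEquivOfLe (inf_le_left : T ≤ P)).toEquiv).symm
    obtain ⟨j, hj⟩ := h5
    rw [h1, hj, h8] at h2
    -- `card N = card TP * P.index`
    have h9 : Nat.card N = Nat.card TP * P.index := by
      have : Nat.card N * 2 = (Nat.card TP * P.index) * 2 := by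
        rw [h3, ← h4, ← hmulP]; ring
      omega
    rw [h9] at h2
    have hpos : 0 < Nat.card TP := Nat.card_pos
    have h10 : j * Nat.card Ω = P.index := by
      have : Nat.card TP * (j * Nat.card Ω) = Nat.card TP * P.index := by
        rw [← h2]; ring
      exact Nat.eq_of_mul_eq_mul_left hpos this
    have : Even P.index := by
      rw [← h10]; exact heven.mul_left j
    exact (Nat.not_even_iff_odd.mpr hodd) this
  obtain ⟨t, htTP, ht1⟩ := exists_ne_one_of_ne_bot hne
  have htG : t.1 ∈ stabilizer G α := (mem_stabilizer_subgroup P α t).mp htTP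
  have ht1' : t.1 ≠ 1 := fun h => ht1 (Subtype.ext h)
  have htx : t.1 • (x.1 • α) = x.1 • α := hfixβ t htTP
  exact ⟨N, hNn, Or.inl hNidx, (stabilizer G α).subgroupOf N,
    frobenius_complement_of hF hfaith α N x.1 hxN hstab t.1 htG ht1' htx⟩

/-- the assembled statement -/
theorem main [Finite Ω] [FaithfulSMul G Ω] [IsPretransitive G Ω]
    (hfix : ∀ g : G, g ≠ 1 → Nat.card (fixedBy Ω g) ≤ 2) (α : Ω) (S : Sylow 2 G) :
    (S : Subgroup G) ⊓ stabilizer G α = ⊥ ∨
    (((∃ n : ℕ, Nonempty (↥(S : Subgroup G) ≃* DihedralGroup n)) ∨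
        Cfsg.IsQuasiDihedral ↥(S : Subgroup G)) ∧
       (Nat.card ↥((S : Subgroup G) ⊓ stabilizer G α) = 2 ∨
        ((S : Subgroup G) ⊓ stabilizer G α).relIndex (S : Subgroup G) = 2)) ∨
    (4 ≤ Nat.card (S : Subgroup G) ∧
       (∃ ω : Ω, Nat.card (orbit ↥(S : Subgroup G) ω) = 2 ∧
          ∀ ω' : Ω, ω' ∉ orbit ↥(S : Subgroup G) ω →
            Nat.card (orbit ↥(S : Subgroup G) ω') = Nat.card (S : Subgroup G)) ∧
       ∃ N : Subgroup G, N.Normal ∧ (N.index = 2 ∨ N.index = Nat.card (S : Subgroup G)) ∧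
        (∃ H : Subgroup ↥N, Cfsg.IsFrobeniusComplement H)) ∨
    (S : Subgroup G) ≤ stabilizer G α := by
  haveI : Fact (Nat.Prime 2) := ⟨Nat.prime_two⟩
  have hF : F3 G Ω := F3_of_card hfix
  have hfaith : ∀ g : G, (∀ ω : Ω, g • ω = ω) → g = 1 := by
    intro g hg
    apply FaithfulSMul.eq_of_smul_eq_smul (α := Ω)
    intro ω
    rw [hg ω, one_smul]
  set P : Subgroup G := (S : Subgroup G) with hPdef
  have hP : IsPGroup 2 P := S.isPGroup'
  have hodd : Odd P.index := by
    rw [← Nat.not_even_iff_odd, even_iff_two_dvd]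
    exact S.not_dvd_index
  by_cases hbot : P ⊓ stabilizer G α = ⊥
  · exact Or.inl hbot
  by_cases htop : P ≤ stabilizer G α
  · exact Or.inr (Or.inr (Or.inr htop))
  have h1 : stabilizer P α ≠ ⊥ := by
    intro h
    apply hbot
    rw [stabilizer_subgroup_eq, Subgroup.subgroupOf_eq_bot] at h
    rw [inf_comm]
    exact disjoint_iff.mp h
  have h2 : stabilizer P α ≠ ⊤ := by
    intro h
    apply htop
    rw [stabilizer_subgroup_eq, Subgroup.subgroupOf_eq_top] at h
    exact h
  have hFP : F3 P Ω := F3_subgroup hF P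
  have hsub : (P ⊓ stabilizer G α).subgroupOf P = stabilizer P α := by
    rw [Subgroup.inf_subgroupOf_left, stabilizer_subgroup_eq]
  have hcard : Nat.card ↥(P ⊓ stabilizer G α) = Nat.card (stabilizer P α) := by
    rw [← hsub]
    exact (Nat.card_congr (Subgroup.subgroupOfEquivOfLe
      (inf_le_left : P ⊓ stabilizer G α ≤ P)).toEquiv).symm
  have hrel : (P ⊓ stabilizer G α).relIndex P = (stabilizer P α).index := by
    rw [Subgroup.relIndex, hsub]
  rcases structure_P hP hFP α h1 h2 with ⟨hD, hc⟩ | ⟨hidx, x, hx, hxn, hreg⟩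
  · refine Or.inr (Or.inl ⟨hD, ?_⟩)
    rw [hcard, hrel]
    exact hc
  · exact Or.inr (Or.inr (Or.inl
      (third_alt hF hfaith α P hP hodd h1 hidx x hx hxn hreg)))

end Cfsg.Agent.S3390L
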